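import Cfsg.Agent.Lib.Solvable.Core
import Mathlib.GroupTheory.Frattini
import Mathlib.GroupTheory.Complement

/-!
Gaschütz lemmas on the Frattini subgroup.
-/

set_option autoImplicit false

open Subgroup

namespace CfsgLib.FrattiniEmbed

variable {G : Type*} [Group G] [Finite G]

/-- A normal subgroup of `G` inside the Frattini subgroup of some `U ≤ G` lies in `Φ(G)`. -/
theorem le_frattini_of_le_frattini_subgroup {N U : Subgroup G} [N.Normal]
    (h : N ≤ (frattini ↥U).map U.subtype) : N ≤ frattini G := by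
  refine le_iInf₂ fun M hM => ?_
  by_contra hNM
  have hNU : N ≤ U := h.trans (map_subtype_le _)
  have htop : N ⊔ M = ⊤ := hM.2 _ (right_lt_sup.mpr hNM)
  have h1 : N.subgroupOf U ≤ frattini ↥U := by
    rw [← map_subtype_le_map_subtype, subgroupOf_map_subtype]
    exact inf_le_left.trans h
  have h2 : M.subgroupOf U ⊔ frattini ↥U = ⊤ := by
    rw [eq_top_iff]
    rintro ⟨x, hx⟩ -
    have hx' : x ∈ ((N ⊔ M : Subgroup G) : Set G) := by rw [htop]; exact mem_top x
    rw [normal_mul] at hx'
    obtain ⟨n, hn, m, hm, rfl⟩ := Set.mem_mul.mp hx'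
    have hmU : m ∈ U := by
      have := U.mul_mem (U.inv_mem (hNU hn)) hx
      rwa [inv_mul_cancel_left] at this
    have : (⟨n * m, hx⟩ : U) = ⟨n, hNU hn⟩ * ⟨m, hmU⟩ := rfl
    rw [this]
    exact mul_mem (mem_sup_right (h1 hn)) (mem_sup_left hm)
  have h3 := frattini_nongenerating h2
  rw [subgroupOf_eq_top] at h3
  exact hNM (hNU.trans h3)

/-- `Φ(H) ≤ Φ(G)` for normal `H`. -/
theorem frattini_map_le (H : Subgroup G) [H.Normal] :
    (frattini ↥H).map H.subtype ≤ frattini G :=
  le_frattini_of_le_frattini_subgroup (U := H) le_rfl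

/-- An abelian normal subgroup meeting the Frattini subgroup trivially is complemented. -/
theorem exists_complement_of_inf_frattini {A : Subgroup G} [A.Normal] [IsMulCommutative A]
    (hA : A ⊓ frattini G = ⊥) : ∃ H : Subgroup G, IsComplement' A H := by
  obtain ⟨H, -, hH⟩ := exists_minimal_le_of_wellFoundedLT (fun H : Subgroup G => A ⊔ H = ⊤) ⊤
    (sup_top_eq A)
  have hn : (A ⊓ H).Normal := by
    rw [← normalizer_eq_top_iff, eq_top_iff, ← hH.prop, sup_le_iff]
    refine ⟨?_, ?_⟩
    · refine le_trans (fun a ha => ?_) (centralizer_le_normalizer _)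
      rw [mem_centralizer_iff]
      intro b hb
      exact congrArg Subtype.val (mul_comm' (⟨b, (mem_inf.mp hb).1⟩ : A) ⟨a, ha⟩)
    · refine fun h hh => mem_normalizer_iff.mpr fun x => ?_
      simp only [mem_inf]
      constructor
      · exact fun hx => ⟨‹A.Normal›.conj_mem x hx.1 h, H.mul_mem (H.mul_mem hh hx.2) (H.inv_mem hh)⟩
      · intro hx
        have h1 := ‹A.Normal›.conj_mem _ hx.1 h⁻¹
        have h2 := H.mul_mem (H.mul_mem (H.inv_mem hh) hx.2) hh
        simp only [mul_assoc, inv_mul_cancel, mul_one, inv_mul_cancel_left, inv_inv] at h1 h2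
        exact ⟨h1, h2⟩
  have hle : A ⊓ H ≤ (frattini ↥H).map H.subtype := by
    have h1 : (A ⊓ H).subgroupOf H ≤ frattini ↥H := by
      refine le_iInf₂ fun M hM => ?_
      by_contra hM'
      have htop : (A ⊓ H).subgroupOf H ⊔ M = ⊤ := hM.2 _ (right_lt_sup.mpr hM')
      have hmA : ((A ⊓ H).subgroupOf H).map H.subtype ≤ A := by
        rw [subgroupOf_map_subtype]
        exact inf_le_left.trans inf_le_left
      have h2 : A ⊔ M.map H.subtype = ⊤ := by
        rw [eq_top_iff, ← hH.prop]
        refine sup_le le_sup_left ?_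
        calc H = (⊤ : Subgroup H).map H.subtype := by rw [← MonoidHom.range_eq_map, range_subtype]
          _ ≤ A ⊔ M.map H.subtype := by
            rw [← htop, Subgroup.map_sup]
            exact sup_le_sup_right hmA _
      have h3 := hH.le_of_le h2 (map_subtype_le M)
      refine hM.1 (top_le_iff.mp fun y _ => ?_)
      obtain ⟨z, hz, hzy⟩ := h3 y.2
      exact (H.subtype_injective hzy) ▸ hz
    calc A ⊓ H = ((A ⊓ H).subgroupOf H).map H.subtype := by
          rw [subgroupOf_map_subtype, inf_assoc, inf_idem]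
      _ ≤ _ := map_mono h1
  have hbot : A ⊓ H = ⊥ :=
    eq_bot_iff.mpr (hA ▸ le_inf inf_le_left (le_frattini_of_le_frattini_subgroup hle))
  exact ⟨H, isComplement'_of_disjoint_and_mul_eq_univ (disjoint_iff.mpr hbot)
    (by rw [← normal_mul, hH.prop, coe_top])⟩

/-- `H ≤ Φ(G)` normal ⇒ `Inn H ≤ Φ(Aut H)`. -/
theorem inner_le_frattini_aut (H : Subgroup G) [H.Normal] (hH : H ≤ frattini G) :
    (MulAut.conj : ↥H →* MulAut ↥H).range ≤ frattini (MulAut ↥H) := by
  have : (MulAut.conj : ↥H →* MulAut ↥H).range.Normal := by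
    refine ⟨?_⟩
    rintro _ ⟨a, rfl⟩ σ
    exact ⟨σ a, MulEquiv.ext fun x => by simp [MulAut.conj_apply, MulAut.mul_apply]⟩
  set φ : G →* MulAut ↥H := MulAut.conjNormal
  refine le_frattini_of_le_frattini_subgroup (U := φ.range) ?_
  rintro _ ⟨a, rfl⟩
  refine ⟨φ.rangeRestrict (a : G), ?_, ?_⟩
  · exact frattini_le_comap_frattini_of_surjective φ.rangeRestrict_surjective (hH a.2)
  · refine MulEquiv.ext fun x => Subtype.ext ?_
    simp [φ, MulAut.conjNormal_apply, MulAut.conj_apply]

/-- A nilpotent group contains its derived group in its Frattini subgroup. -/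
theorem commutator_le_frattini_of_nilpotent {K : Type*} [Group K] [Finite K]
    [Group.IsNilpotent K] : commutator K ≤ frattini K := by
  refine le_iInf₂ fun M hM => ?_
  have hn : M.Normal :=
    NormalizerCondition.normal_of_coatom M Group.normalizerCondition_of_isNilpotent hM
  have : Nontrivial (K ⧸ M) := QuotientGroup.nontrivial_iff.mpr hM.1
  have : IsSimpleGroup (K ⧸ M) := by
    refine ⟨fun Y hY => ?_⟩
    have hle : M ≤ Y.comap (QuotientGroup.mk' M) := fun x hx => by
      rw [mem_comap, show QuotientGroup.mk' M x = 1 from (QuotientGroup.eq_one_iff x).mpr hx]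
      exact one_mem Y
    have hs := QuotientGroup.mk'_surjective M
    rcases hle.eq_or_lt with h | h
    · left
      rw [← map_comap_eq_self_of_surjective hs Y, ← h, QuotientGroup.map_mk'_self]
    · right
      rw [← map_comap_eq_self_of_surjective hs Y, hM.2 _ h, map_top_of_surjective _ hs]
  exact (Normal.quotient_commutative_iff_commutator_le (N := M)).mp
    (show IsMulCommutative (K ⧸ M) from inferInstance)

/-- For trivial Frattini subgroup the Fitting subgroup is abelian. -/
theorem fitting_isMulCommutative (hΦ : frattini G = ⊥) :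
    IsMulCommutative (Cfsg.fittingSubgroup G) := by
  have := CfsgLib.Solvable.fittingSubgroup_normal G
  have := CfsgLib.Solvable.fittingSubgroup_isNilpotent G
  have h1 : (commutator ↥(Cfsg.fittingSubgroup G)).map (Cfsg.fittingSubgroup G).subtype = ⊥ :=
    eq_bot_iff.mpr (hΦ ▸ (map_mono commutator_le_frattini_of_nilpotent).trans (frattini_map_le _))
  rw [map_eq_bot_iff_of_injective _ (Cfsg.fittingSubgroup G).subtype_injective] at h1
  refine ⟨⟨fun a b => ?_⟩⟩
  rw [← commutatorElement_eq_one_iff_mul_comm, ← mem_bot, ← h1, commutator_def]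
  exact commutator_mem_commutator (mem_top a) (mem_top b)

/-- For trivial Frattini subgroup `F(G)` is the join of the abelian minimal normal subgroups. -/
theorem fitting_eq_abelian_socle (hΦ : frattini G = ⊥) :
    Cfsg.fittingSubgroup G = sSup {N : Subgroup G | N.Normal ∧ N ≠ ⊥ ∧ IsMulCommutative N ∧
      ∀ K : Subgroup G, K.Normal → K ≤ N → K = ⊥ ∨ K = N} := by
  set F := Cfsg.fittingSubgroup G
  set S := sSup {N : Subgroup G | N.Normal ∧ N ≠ ⊥ ∧ IsMulCommutative N ∧
      ∀ K : Subgroup G, K.Normal → K ≤ N → K = ⊥ ∨ K = N}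
  have hFn := CfsgLib.Solvable.fittingSubgroup_normal G
  have hFc : IsMulCommutative F := fitting_isMulCommutative hΦ
  have hS : S ≤ F := sSup_le fun N hN => by
    refine CfsgLib.Solvable.le_fittingSubgroup hN.1 ?_
    exact CfsgLib.Solvable.isNilpotent_of_comm fun a b => hN.2.2.1.is_comm.comm a b
  refine le_antisymm ?_ hS
  have hcomm : ∀ a ∈ F, ∀ b ∈ F, a * b = b * a := fun a ha b hb =>
    congrArg Subtype.val (hFc.is_comm.comm ⟨a, ha⟩ ⟨b, hb⟩)
  have hSc : IsMulCommutative S :=
    ⟨⟨fun a b => Subtype.ext (hcomm a (hS a.2) b (hS b.2))⟩⟩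
  have hSn : S.Normal :=
    (CfsgLib.Solvable.sSup_induction_normal (P := fun _ => True) trivial
      (fun _ _ _ _ _ _ => trivial) (Set.toFinite _) fun N hN => ⟨hN.1, trivial⟩).1
  obtain ⟨H, hH⟩ := exists_complement_of_inf_frattini (A := S) (by rw [hΦ, inf_bot_eq])
  have hdec : ∀ g : G, ∃ s ∈ S, ∃ h ∈ H, s * h = g := fun g => by
    obtain ⟨⟨s, h⟩, hsh⟩ := hH.2 g
    exact ⟨s, s.2, h, h.2, hsh⟩
  have hn : (F ⊓ H).Normal := by
    refine ⟨fun x hx g => ?_⟩
    obtain ⟨s, hs, h, hh, rfl⟩ := hdec g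
    have hx' : h * x * h⁻¹ ∈ F ⊓ H :=
      ⟨hFn.conj_mem x hx.1 h, H.mul_mem (H.mul_mem hh hx.2) (H.inv_mem hh)⟩
    have : s * h * x * (s * h)⁻¹ = h * x * h⁻¹ := by
      rw [mul_inv_rev, show s * h * x * (h⁻¹ * s⁻¹) = s * (h * x * h⁻¹) * s⁻¹ by group,
        hcomm s (hS hs) _ hx'.1, mul_inv_cancel_right]
    rw [this]
    exact hx'
  have hbot : F ⊓ H = ⊥ := by
    by_contra hne
    obtain ⟨M, hMn, hM0, hMle, hMmin⟩ := CfsgLib.Solvable.exists_minimal_normal_le (F ⊓ H) hne
    have hMc : IsMulCommutative M :=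
      ⟨⟨fun a b => Subtype.ext (hcomm a (hMle a.2).1 b (hMle b.2).1)⟩⟩
    have hMS : M ≤ S := le_sSup (show M ∈ {N : Subgroup G | N.Normal ∧ N ≠ ⊥ ∧ IsMulCommutative N ∧
      ∀ K : Subgroup G, K.Normal → K ≤ N → K = ⊥ ∨ K = N} from ⟨hMn, hM0, hMc, hMmin⟩)
    exact hM0 (eq_bot_iff.mpr ((le_inf hMS (hMle.trans inf_le_right)).trans hH.disjoint.le_bot))
  intro f hf
  obtain ⟨s, hs, h, hh, rfl⟩ := hdec f
  have : h ∈ F ⊓ H := mem_inf.mpr ⟨by simpa using F.mul_mem (F.inv_mem (hS hs)) hf, hh⟩
  rw [hbot, mem_bot] at this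
  rwa [this, mul_one]

/-- The Fitting subgroup centralises minimal normal subgroups. -/
theorem fitting_le_centralizer_minimal (M : Subgroup G) [M.Normal]
    (hmin : ∀ K : Subgroup G, K.Normal → K ≤ M → K = ⊥ ∨ K = M) :
    Cfsg.fittingSubgroup G ≤ centralizer (M : Set G) := by
  set F := Cfsg.fittingSubgroup G
  have := CfsgLib.Solvable.fittingSubgroup_normal G
  have := CfsgLib.Solvable.fittingSubgroup_isNilpotent G
  have hc : ⁅M, F⁆ ≤ M ⊓ F := commutator_le_inf M F
  rcases hmin (M ⊓ F) inferInstance inf_le_left with h | h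
  · rw [← le_centralizer_iff, ← commutator_eq_bot_iff_le_centralizer]
    exact le_bot_iff.mp (h ▸ hc)
  · rcases hmin ⁅M, F⁆ inferInstance (hc.trans inf_le_left) with h1 | h1
    · rwa [← le_centralizer_iff, ← commutator_eq_bot_iff_le_centralizer]
    · have key : ∀ n, M ≤ F.lowerCentralSeries n := by
        intro n
        induction n with
        | zero => exact h.ge.trans inf_le_right
        | succ n ih =>
          rw [Subgroup.lowerCentralSeries_succ]
          exact h1.ge.trans (commutator_mono ih le_rfl)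
      obtain ⟨n, hn⟩ : ∃ n, F.lowerCentralSeries n = ⊥ :=
        (isNilpotent_iff_lowerCentralSeries F).mp inferInstance
      rw [← le_centralizer_iff, le_bot_iff.mp ((key n).trans hn.le)]
      exact bot_le

end CfsgLib.FrattiniEmbed
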